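import Groth.Agent.Lib.EtDer.NormalConst
import Groth.Agent.Lib.EtSite.Sections
import Groth.Agent.Lib.Hensel.Henselization
import Groth.Prelude.Def_Hens2
import Groth.Agent.Lib.EtTrace21.H90Push

/-!
# Constant sheaves on geometrically unibranch irreducible schemes
-/

set_option autoImplicit false
set_option backward.isDefEq.respectTransparency false
set_option backward.isDefEq.respectTransparency.types false
set_option linter.style.haveILetI false

universe u

open CategoryTheory CategoryTheory.Limits CategoryTheory.Abelian AlgebraicGeometry Opposite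
open GrothLib.EtSite GrothLib.EtDer GrothLib.EtColim

noncomputable section

namespace GrothLib.UnibrConst18

variable {Y : Scheme.{u}}

/-- Over a geometrically unibranch scheme, each point of an etale scheme has a most generic generization. -/
theorem exists_generic_etale
    (hY : ∀ (x : Y) (R : Type u) [CommRing R] [IsLocalRing R] [Algebra (Y.presheaf.stalk x) R]
      [IsLocalHom (algebraMap (Y.presheaf.stalk x) R)] [Hensel.IsStrictHenselization (Y.presheaf.stalk x) R],
      IrreducibleSpace (PrimeSpectrum R))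
    (V : Y.Etale) (v : V.left) : ∃ η : V.left, η ⤳ v ∧ ∀ y : V.left, y ⤳ v → η ⤳ y := by
  haveI : Etale V.hom := V.prop
  let R := GrothLib.Hensel.StrictHens (Y.presheaf.stalk (V.hom v))
  haveI := hY (V.hom v) R
  haveI : HenselianLocalRing R := Hensel.IsStrictHenselization.henselian (R := Y.presheaf.stalk (V.hom v))
  haveI := Hensel.IsStrictHenselization.isSepClosure (R := Y.presheaf.stalk (V.hom v)) (S := R)
  haveI : IsSepClosed (IsLocalRing.ResidueField R) :=
    IsSepClosure.sep_closed (k := IsLocalRing.ResidueField (Y.presheaf.stalk (V.hom v)))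
  let c : Spec (CommRingCat.of R) ⟶ Y := Hens2.specOf Y (V.hom v) R
  have hc : c (IsLocalRing.closedPoint R) = V.hom v := by
    rw [Scheme.Hom.comp_apply, show Spec.map (CommRingCat.ofHom (algebraMap (Y.presheaf.stalk (V.hom v)) R))
        (IsLocalRing.closedPoint R) = IsLocalRing.closedPoint (Y.presheaf.stalk (V.hom v)) from
      IsLocalRing.comap_closedPoint (algebraMap (Y.presheaf.stalk (V.hom v)) R)]
    exact Scheme.fromSpecStalk_closedPoint
  haveI : Flat c := by
    haveI : Flat (Spec.map (CommRingCat.ofHom (algebraMap (Y.presheaf.stalk (V.hom v)) R))) :=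
      (HasRingHomProperty.Spec_iff (P := @Flat)).2
        (RingHom.flat_algebraMap_iff.2 (GrothLib.Hensel.IsStrictHenselization.flat (S := R)))
    exact MorphismProperty.comp_mem _ _ _ inferInstance (inferInstance : Flat (Y.fromSpecStalk (V.hom v)))
  obtain ⟨z, hz₁, hz₂⟩ := Scheme.Pullback.exists_preimage_pullback (f := V.hom) (g := c) v
    (IsLocalRing.closedPoint R) hc.symm
  let P := pullback V.hom c
  let Ω : Type u := P.residueField z
  let t : Spec (CommRingCat.of Ω) ⟶ P := P.fromSpecResidueField z
  let ρ : CommRingCat.of R ⟶ CommRingCat.of Ω := Spec.preimage (t ≫ pullback.snd V.hom c)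
  have hρ : RingHom.ker ρ.hom = IsLocalRing.maximalIdeal R := by
    have h1 : Spec.map ρ (default : PrimeSpectrum Ω) = IsLocalRing.closedPoint R := by
      rw [Spec.map_preimage, Scheme.Hom.comp_apply]
      exact (congrArg (pullback.snd V.hom c) (Scheme.fromSpecResidueField_apply z _)).trans hz₂
    refine Eq.trans ?_ (congrArg PrimeSpectrum.asIdeal h1)
    exact congrArg (Ideal.comap ρ.hom) (Ideal.eq_bot_of_prime _).symm
  obtain ⟨s, hs, hst⟩ := GrothLib.EtSite.exists_section (pullback.snd V.hom c) ρ.hom hρ t
    (Spec.map_preimage _).symm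
  let σ : Spec (CommRingCat.of R) ⟶ V.left := s ≫ pullback.fst V.hom c
  haveI : Etale (s ≫ pullback.snd V.hom c) := by rw [hs]; infer_instance
  haveI : Etale s := Etale.of_comp s (pullback.snd V.hom c)
  haveI : Flat (pullback.fst V.hom c) := MorphismProperty.pullback_fst V.hom c inferInstance
  haveI : Flat σ := MorphismProperty.comp_mem _ _ _ inferInstance inferInstance
  have hσ : σ (IsLocalRing.closedPoint R) = v := by
    have h1 : s (IsLocalRing.closedPoint R) = z := by
      have h2 := congrArg (fun m : Spec (CommRingCat.of Ω) ⟶ P => m (default : PrimeSpectrum Ω)) hst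
      rw [Scheme.Hom.comp_apply] at h2
      refine (Eq.trans (congrArg s ?_) h2).trans (Scheme.fromSpecResidueField_apply z _)
      rw [CommRingCat.ofHom_hom, Spec.map_preimage, Scheme.Hom.comp_apply]
      exact ((congrArg (pullback.snd V.hom c) (Scheme.fromSpecResidueField_apply z _)).trans hz₂).symm
    rw [Scheme.Hom.comp_apply, h1]; exact hz₁
  haveI : IrreducibleSpace (Spec (CommRingCat.of R)) := inferInstanceAs (IrreducibleSpace (PrimeSpectrum R))
  refine ⟨σ (genericPoint (Spec (CommRingCat.of R))), ?_, fun y hy => ?_⟩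
  · exact ((genericPoint_specializes _).map σ.continuous).trans (specializes_of_eq hσ)
  · obtain ⟨q, -, rfl⟩ := (Flat.generalizingMap σ) (hy.trans (specializes_of_eq hσ.symm))
    exact (genericPoint_specializes q).map σ.continuous

variable (M : AddCommGrpCat.{u + 1}) {X : Scheme.{u}} (f : X ⟶ Y)

theorem bijective_constUnit [IsPreimmersion f] [QuasiCompact f]
    (hgeneric : ∀ (V : Y.Etale) (v : V.left), ∃ η : V.left, η ⤳ v ∧ ∀ y : V.left, y ⤳ v → η ⤳ y)
    (hgen : ∀ p : Y, (∀ q : Y, q ⤳ p → q = p) → p ∈ Set.range f.base) (V : Y.Etale) :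
    Function.Bijective ((constUnit M f).hom.app (op V)) := by
  haveI : Etale V.hom := V.prop
  let g := bcProj f V
  choose η hη hη' using hgeneric V
  have hmem : ∀ v, ∃ z, g.base z = η v := fun v => by
    refine (Scheme.Pullback.range_fst (f := V.hom) (g := f)).superset ?_
    refine hgen _ fun q hq => ?_
    obtain ⟨y, hy, rfl⟩ := (Flat.generalizingMap V.hom) hq
    exact congrArg V.hom.base (hy.antisymm (hη' v y (hy.trans (hη v)))).eq
  choose z hz using hmem
  refine ⟨fun s t h => ext_val M V s t fun v => ?_, fun t => ?_⟩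
  · rw [← apply_eq_of_specializes (isLocallyConstant_val M V s) (hη v),
      ← apply_eq_of_specializes (isLocallyConstant_val M V t) (hη v), ← hz v, ← val_constUnit,
      ← val_constUnit, h]
  · let φ := val M _ t
    have hφ : IsLocallyConstant φ := isLocallyConstant_val M _ t
    let ψ : V.left → M := fun v => φ (z v)
    have hψ : IsLocallyConstant ψ := (IsLocallyConstant.iff_exists_open _).2 fun v => by
      let S : Set ↥(pullback V.hom f) := φ ⁻¹' {ψ v}ᶜ
      have hS : IsClosed S := (hφ {ψ v}).isClosed_compl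
      refine ⟨(closure (g.base '' S))ᶜ, isClosed_closure.isOpen_compl, fun hv => ?_, fun p hp => ?_⟩
      · obtain ⟨a, ha, hav⟩ := GrothLib.GrpdQuot.exists_specializes_of_mem_closure g S hS v hv
        refine ha ?_
        have h1 : g.base (z v) ⤳ g.base a := by
          rw [hz]; exact hη' v _ hav
        exact (apply_eq_of_specializes hφ (g.isEmbedding.isInducing.specializes_iff.1 h1)).symm
      · by_contra hne
        exact hp ((hη p).mem_closed isClosed_closure (subset_closure ⟨z p, hne, hz p⟩))
    obtain ⟨s, hs⟩ := exists_val M V ψ hψ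
    refine ⟨s, ext_val M _ _ t fun w => ?_⟩
    rw [val_constUnit, hs]
    have h1 : g.base (z (g.base w)) ⤳ g.base w := by rw [hz]; exact hη _
    exact apply_eq_of_specializes hφ (g.isEmbedding.isInducing.specializes_iff.1 h1)

theorem isIso_constUnit [IsPreimmersion f] [QuasiCompact f]
    (hgeneric : ∀ (V : Y.Etale) (v : V.left), ∃ η : V.left, η ⤳ v ∧ ∀ y : V.left, y ⤳ v → η ⤳ y)
    (hgen : ∀ p : Y, (∀ q : Y, q ⤳ p → q = p) → p ∈ Set.range f.base) : IsIso (constUnit M f) := by
  haveI : IsIso (constUnit M f).hom := by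
    haveI : ∀ V, IsIso ((constUnit M f).hom.app V) := fun V =>
      (ConcreteCategory.isIso_iff_bijective _).2 (bijective_constUnit M f hgeneric hgen V.unop)
    exact NatIso.isIso_of_isIso_app _
  haveI : IsIso ((sheafToPresheaf _ _).map (constUnit M f)) := ‹IsIso (constUnit M f).hom›
  exact isIso_of_reflects_iso (constUnit M f) (sheafToPresheaf _ _)

theorem subsingleton_H_one (M₀ : Type) [AddCommGroup M₀] [IrreducibleSpace Y] (f : X ⟶ Y) [IsPreimmersion f]
    [QuasiCompact f] (hgen : genericPoint Y ∈ Set.range f.base)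
    (hgeneric : ∀ (V : Y.Etale) (v : V.left), ∃ η : V.left, η ⤳ v ∧ ∀ y : V.left, y ⤳ v → η ⤳ y)
    (h : Subsingleton (EtCoh.H X (EtCoh.const X M₀) 1)) :
    Subsingleton (EtCoh.H Y (EtCoh.const Y M₀) 1) := by
  let M : AddCommGrpCat.{u + 1} := AddCommGrpCat.of (ULift.{u + 1} M₀)
  haveI := isIso_constUnit M f hgeneric fun p hp => hp _ (genericPoint_specializes p) ▸ hgen
  haveI := GrothLib.EtDer.pullFL f
  let adj := EtCoh.pullPushAdj f
  haveI : (EtCoh.pull f).Additive := adj.left_adjoint_additive
  haveI : (EtCoh.push f).Additive := adj.right_adjoint_additive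
  haveI : PreservesColimitsOfSize.{0, 0} (EtCoh.pull f) := adj.leftAdjoint_preservesColimits
  haveI : PreservesFiniteColimits (EtCoh.pull f) := PreservesColimitsOfSize.preservesFiniteColimits _
  let c := EtCore.pullConst f ℤ
  have hT : ∀ a : Ext.{u + 1} ((EtCoh.pull f).obj (Z Y)) (CM M X) 1, a = 0 := fun a => by
    rw [← Ext.mk₀_id_comp a, ← c.hom_inv_id, ← Ext.mk₀_comp_mk₀_assoc,
      @Subsingleton.elim _ h ((Ext.mk₀ c.inv).comp a (zero_add 1)) 0, Ext.comp_zero]
  have hP : ∀ b : Ext.{u + 1} (Z Y) ((EtCoh.push f).obj (CM M X)) 1, b = 0 := fun b =>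
    GrothLib.ExtAdj.injective_adjMap_one adj _ _ ((hT _).trans (map_zero _).symm)
  refine subsingleton_of_forall_eq 0 fun x => ?_
  exact (GrothLib.EtDer.bijective_comp_mk₀ (asIso (constUnit M f)) 1).1
    ((hP _).trans (Ext.zero_comp _ _ _ _ (add_zero 1)).symm)

end GrothLib.UnibrConst18
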